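import Groth.Agent.FibIdem.Sections
import Groth.Agent.SteinGen.Factor
import Groth.Agent.FinFibImage.Main
import Mathlib

/-!
Idempotents on the fibre of a proper morphism lift to a neighbourhood.
-/

set_option autoImplicit false
set_option maxHeartbeats 800000
set_option backward.isDefEq.respectTransparency false

universe u

open CategoryTheory CategoryTheory.Limits AlgebraicGeometry Opposite

noncomputable section

namespace Groth.Agent.FibIdem

theorem basicOpen_compl_of_idem {Y : Scheme.{u}} {e : Γ(Y, ⊤)} (he : IsIdempotentElem e) :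
    ((Y.basicOpen e : Y.Opens) : Set Y)ᶜ = (Y.basicOpen (1 - e) : Set Y) := by
  ext y
  simp only [Set.mem_compl_iff, SetLike.mem_coe, Scheme.mem_basicOpen_top, map_sub, map_one]
  have h0 : IsIdempotentElem (Y.presheaf.germ ⊤ y trivial e) := he.map _
  have hcases : Y.presheaf.germ ⊤ y trivial e = 0 ∨ Y.presheaf.germ ⊤ y trivial e = 1 := by
    rcases IsLocalRing.isUnit_or_isUnit_one_sub_self (Y.presheaf.germ ⊤ y trivial e) with hu | hu
    · right; exact hu.mul_left_cancel (by rw [mul_one]; exact h0)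
    · left; exact hu.mul_right_eq_zero.mp (by rw [sub_mul, one_mul, h0, sub_self])
  rcases hcases with h | h <;> rw [h] <;> simp

theorem eq_of_basicOpen_eq {Y : Scheme.{u}} [CompactSpace Y] {e e' : Γ(Y, ⊤)} (he : IsIdempotentElem e)
    (he' : IsIdempotentElem e') (h : Y.basicOpen e = Y.basicOpen e') : e = e' := by
  have key : ∀ a b : Γ(Y, ⊤), IsIdempotentElem a → IsIdempotentElem b → Y.basicOpen a = Y.basicOpen b →
      a * (1 - b) = 0 := by
    intro a b ha hb hab
    have hnil : IsNilpotent (a * (1 - b)) := by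
      refine (Y.isNilpotent_iff_basicOpen_eq_bot _).mpr (eq_bot_iff.mpr fun y hy => ?_)
      rw [Scheme.basicOpen_mul, hab] at hy
      have hy2 : y ∈ (Y.basicOpen (1 - b) : Set Y) := hy.2
      rw [← basicOpen_compl_of_idem hb] at hy2
      exact absurd hy.1 hy2
    obtain ⟨n, hn⟩ := hnil
    cases n with
    | zero =>
      rw [pow_zero] at hn
      rw [← mul_one (a * (1 - b)), hn, mul_zero]
    | succ n => rwa [(ha.mul hb.one_sub).pow_succ_eq n] at hn
  have h1 := key e e' he he' h
  have h2 := key e' e he' he h.symm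
  rw [mul_sub, mul_one, sub_eq_zero] at h1 h2
  rw [h1, mul_comm, ← h2]

theorem exists_clopen_image {α β : Type*} [TopologicalSpace α] [TopologicalSpace β] {q : α → β}
    (hq : IsClosedMap q) (hsurj : Function.Surjective q) (hfib : ∀ b, IsPreconnected (q ⁻¹' {b}))
    {C : Set α} (hC : IsClopen C) : ∃ D : Set β, IsClopen D ∧ q ⁻¹' D = C := by
  have hpre : q ⁻¹' (q '' C) = C := by
    refine le_antisymm (fun a ha => ?_) (Set.subset_preimage_image q C)
    obtain ⟨c, hc, hca⟩ := ha
    exact (hfib (q a)).subset_isClopen hC ⟨c, hca, hc⟩ rfl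
  refine ⟨q '' C, ⟨hq C hC.1, ?_⟩, hpre⟩
  rw [← isClosed_compl_iff, show (q '' C)ᶜ = q '' Cᶜ from ?_]
  · exact hq _ hC.2.isClosed_compl
  ext b
  obtain ⟨a, rfl⟩ := hsurj b
  constructor
  · exact fun h => ⟨a, fun ha => h ⟨a, ha, rfl⟩, rfl⟩
  · rintro ⟨a', ha', h'⟩ h
    apply ha'
    rw [← hpre]
    rwa [← h'] at h

theorem exists_lift_idempotent {X S : Scheme.{u}} (f : X ⟶ S) [IsProper f] (s : S)
    (e : Γ(f.fiber s, ⊤)) (he : IsIdempotentElem e) :
    ∃ (V : S.Opens) (_ : s ∈ V) (t : Γ(X, f ⁻¹ᵁ V)),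
      ((f.fiberι s).app (f ⁻¹ᵁ V)).hom t =
        ((f.fiber s).presheaf.map (homOfLE (le_top : (f.fiberι s) ⁻¹ᵁ (f ⁻¹ᵁ V) ≤ ⊤)).op).hom e := by
  let g := f.fromNormalization
  let h := f.toNormalization
  have hfac : h ≫ g = f := f.toNormalization_fromNormalization
  have : IsProper (h ≫ g) := by rw [hfac]; infer_instance
  have : IsProper h := IsProper.of_comp h g
  let r : f.fiber s ⟶ g.fiber s :=
    pullback.lift (f.fiberι s ≫ h) (f.fiberToSpecResidueField s)
      (by rw [Category.assoc, hfac]; exact f.fiber_fac s)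
  have hr1 : r ≫ g.fiberι s = f.fiberι s ≫ h := pullback.lift_fst _ _ _
  have hr2 : r ≫ g.fiberToSpecResidueField s = f.fiberToSpecResidueField s := pullback.lift_snd _ _ _
  have hr : IsPullback (f.fiberι s) r h (g.fiberι s) := by
    refine IsPullback.of_bot ?_ hr1.symm (IsPullback.of_hasPullback g (S.fromSpecResidueField s))
    change IsPullback (f.fiberι s) (r ≫ g.fiberToSpecResidueField s) (h ≫ g) (S.fromSpecResidueField s)
    rw [hr2, hfac]
    exact IsPullback.of_hasPullback _ _
  have : IsProper r := MorphismProperty.of_isPullback (P := @IsProper) hr inferInstance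
  have : GeometricallyConnected r := MorphismProperty.of_isPullback hr (SteinGen.geometricallyConnected_toNormalization f)
  have : QuasiCompact (f.fiberToSpecResidueField s) :=
    MorphismProperty.pullback_snd f (S.fromSpecResidueField s) inferInstance
  have : CompactSpace ↥(f.fiber s) := QuasiCompact.compactSpace_of_compactSpace (f.fiberToSpecResidueField s)
  have hC : IsClopen ((f.fiber s).basicOpen e : Set ↥(f.fiber s)) :=
    ⟨by rw [← isOpen_compl_iff, basicOpen_compl_of_idem he]; exact (Scheme.basicOpen _ _).2,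
      ((f.fiber s).basicOpen e).2⟩
  obtain ⟨D, hD, hDC⟩ := exists_clopen_image r.isClosedMap r.surjective
    (fun b => (r.isConnected_preimage_singleton b).isPreconnected) hC
  obtain ⟨e', he', hbo⟩ := FinFibImage.exists_idem_of_isClopen D hD
  have heq : r.appTop e' = e := by
    refine eq_of_basicOpen_eq (he'.map _) he ?_
    apply TopologicalSpace.Opens.ext
    rw [← hDC, ← hbo]
    exact congrArg (fun U : (f.fiber s).Opens => (U : Set ↥(f.fiber s))) (Scheme.preimage_basicOpen r e').symm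
  obtain ⟨V, hs, b, hb⟩ := nearby_eq_top g s e'
  have hVle : f ⁻¹ᵁ V ≤ h ⁻¹ᵁ g ⁻¹ᵁ V := by rw [← Scheme.Hom.comp_preimage, hfac]
  refine ⟨V, hs, (h.appLE (g ⁻¹ᵁ V) (f ⁻¹ᵁ V) hVle).hom b, ?_⟩
  rw [← heq, ← hb]
  have key : h.appLE (g ⁻¹ᵁ V) (f ⁻¹ᵁ V) hVle ≫ (f.fiberι s).app (f ⁻¹ᵁ V) =
      rho g s V hs ≫ r.appTop ≫ (f.fiber s).presheaf.map
        (homOfLE (le_top : (f.fiberι s) ⁻¹ᵁ (f ⁻¹ᵁ V) ≤ ⊤)).op := by
    simp only [rho, Scheme.Hom.appTop, Scheme.Hom.app_eq_appLE, Scheme.Hom.appLE_map, Scheme.Hom.appLE_comp_appLE,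
      hr1]
  exact congrArg (fun φ => φ.hom b) key

end Groth.Agent.FibIdem
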