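import Mathlib

/-!
Sections of the fibre of an affine morphism come from sections near the point.
-/

set_option autoImplicit false
set_option maxHeartbeats 800000

universe u

open CategoryTheory CategoryTheory.Limits AlgebraicGeometry Opposite

noncomputable section

namespace Groth.Agent.FibIdem

theorem preimage_fiber {N S : Scheme.{u}} (g : N ⟶ S) {s : S} {V : S.Opens} (hs : s ∈ V) :
    (⊤ : (g.fiber s).Opens) ≤ g.fiberι s ⁻¹ᵁ g ⁻¹ᵁ V := fun y _ => by
  show g (g.fiberι s y) ∈ V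
  have h : g.fiberι s y ∈ g ⁻¹' {s} := (g.range_fiberι s) ▸ Set.mem_range_self y
  rwa [show g (g.fiberι s y) = s from h]

/-- restriction of a section near the fibre to the fibre -/
def rho {N S : Scheme.{u}} (g : N ⟶ S) (s : S) (V : S.Opens) (hs : s ∈ V) :
    Γ(N, g ⁻¹ᵁ V) ⟶ Γ(g.fiber s, ⊤) :=
  (g.fiberι s).appLE (g ⁻¹ᵁ V) ⊤ (preimage_fiber g hs)

theorem rho_res {N S : Scheme.{u}} (g : N ⟶ S) (s : S) {V W : S.Opens} (hWV : W ≤ V) (hW : s ∈ W) :
    N.presheaf.map (homOfLE (g.preimage_mono hWV)).op ≫ rho g s W hW = rho g s V (hWV hW) :=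
  Scheme.Hom.map_appLE _ _ _

/-- generation of a pushout by its two legs -/
theorem mem_of_isPushout {A B C D : CommRingCat.{u}} {a : A ⟶ B} {b : A ⟶ C} {c : B ⟶ D} {d : C ⟶ D}
    (h : IsPushout a b c d) (T : Subring D) (hc : ∀ x, c.hom x ∈ T) (hd : ∀ x, d.hom x ∈ T) (z : D) :
    z ∈ T := by
  let c' : B ⟶ CommRingCat.of T := CommRingCat.ofHom (c.hom.codRestrict T hc)
  let d' : C ⟶ CommRingCat.of T := CommRingCat.ofHom (d.hom.codRestrict T hd)
  have hw : a ≫ c' = b ≫ d' := by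
    ext x
    exact congrArg (fun φ => φ.hom x) h.w
  let φ : D ⟶ D := h.desc c' d' hw ≫ CommRingCat.ofHom T.subtype
  have hφ : φ = 𝟙 D := h.hom_ext
    (by rw [← Category.assoc, h.inl_desc, Category.comp_id]; rfl)
    (by rw [← Category.assoc, h.inr_desc, Category.comp_id]; rfl)
  have : (φ.hom z : D) ∈ T := (h.desc c' d' hw z).2
  rwa [hφ] at this

/-- the sections of the fibre coming from neighbourhoods form a subring -/
def nearby {N S : Scheme.{u}} (g : N ⟶ S) (s : S) : Subring Γ(g.fiber s, ⊤) where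
  carrier := {z | ∃ (V : S.Opens) (hs : s ∈ V) (b : Γ(N, g ⁻¹ᵁ V)), rho g s V hs b = z}
  one_mem' := ⟨⊤, trivial, 1, map_one _⟩
  zero_mem' := ⟨⊤, trivial, 0, map_zero _⟩
  neg_mem' := by
    rintro _ ⟨V, hs, b, rfl⟩
    exact ⟨V, hs, -b, map_neg _ _⟩
  add_mem' := by
    rintro _ _ ⟨V, hs, b, rfl⟩ ⟨W, hs', c, rfl⟩
    refine ⟨V ⊓ W, ⟨hs, hs'⟩, N.presheaf.map (homOfLE (g.preimage_mono inf_le_left)).op b +
      N.presheaf.map (homOfLE (g.preimage_mono inf_le_right)).op c, ?_⟩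
    rw [map_add, ← rho_res g s (inf_le_left : V ⊓ W ≤ V) ⟨hs, hs'⟩,
      ← rho_res g s (inf_le_right : V ⊓ W ≤ W) ⟨hs, hs'⟩]
    rfl
  mul_mem' := by
    rintro _ _ ⟨V, hs, b, rfl⟩ ⟨W, hs', c, rfl⟩
    refine ⟨V ⊓ W, ⟨hs, hs'⟩, N.presheaf.map (homOfLE (g.preimage_mono inf_le_left)).op b *
      N.presheaf.map (homOfLE (g.preimage_mono inf_le_right)).op c, ?_⟩
    rw [map_mul, ← rho_res g s (inf_le_left : V ⊓ W ≤ V) ⟨hs, hs'⟩,
      ← rho_res g s (inf_le_right : V ⊓ W ≤ W) ⟨hs, hs'⟩]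
    rfl

theorem fromSpecResidueField_appLE {S : Scheme.{u}} (s : S) (V : S.Opens) (hs : s ∈ V)
    (h : (⊤ : (Spec (S.residueField s)).Opens) ≤ S.fromSpecResidueField s ⁻¹ᵁ V) :
    (S.fromSpecResidueField s).appLE V ⊤ h =
      S.evaluation V s hs ≫ (Scheme.ΓSpecIso (S.residueField s)).inv := by
  have h1 : (⊤ : (Spec (S.presheaf.stalk s)).Opens) ≤ S.fromSpecStalk s ⁻¹ᵁ V := fun y _ =>
    (Scheme.range_fromSpecStalk ▸ Set.mem_range_self y : S.fromSpecStalk s y ∈ {y | y ⤳ s}).mem_open V.2 hs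
  have e1 : (S.fromSpecStalk s).appLE V ⊤ h1 =
      S.presheaf.germ V s hs ≫ (Scheme.ΓSpecIso (S.presheaf.stalk s)).inv := by
    rw [Scheme.Hom.appLE, Scheme.fromSpecStalk_app hs]
    simp only [Category.assoc]
    congr 1
  show (Spec.map (S.residue s) ≫ S.fromSpecStalk s).appLE V ⊤ _ = _
  rw [← Scheme.Hom.appLE_comp_appLE _ _ V ⊤ ⊤ h1 le_top, e1, Category.assoc, ← Scheme.germ_residue,
    Category.assoc, Scheme.ΓSpecIso_inv_naturality]
  congr 2
  all_goals simp [Scheme.Hom.appLE, Scheme.Hom.appTop]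

theorem nearby_eq_top {N S : Scheme.{u}} (g : N ⟶ S) [IsAffineHom g] (s : S)
    (z : Γ(g.fiber s, ⊤)) : z ∈ nearby g s := by
  obtain ⟨_, ⟨V : S.Opens, hV, rfl⟩, hs, -⟩ :=
    S.isBasis_affineOpens.exists_subset_of_mem_open (Set.mem_univ s) isOpen_univ
  have hVpre : IsAffineOpen (g ⁻¹ᵁ V) := hV.preimage g
  have : IsAffine (g ⁻¹ᵁ V).toScheme := hVpre
  have : IsAffine V.toScheme := hV
  have hrange : Set.range (S.fromSpecResidueField s) ⊆ Set.range V.ι := by
    rw [Scheme.range_fromSpecResidueField, Scheme.Opens.range_ι]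
    exact Set.singleton_subset_iff.mpr hs
  have hrange' : Set.range (g.fiberι s) ⊆ Set.range (g ⁻¹ᵁ V).ι := by
    rw [Scheme.Opens.range_ι]
    rintro _ ⟨y, rfl⟩
    exact preimage_fiber g hs (trivial : y ∈ (⊤ : (g.fiber s).Opens))
  let j := IsOpenImmersion.lift V.ι (S.fromSpecResidueField s) hrange
  let i := IsOpenImmersion.lift (g ⁻¹ᵁ V).ι (g.fiberι s) hrange'
  have hj : j ≫ V.ι = S.fromSpecResidueField s := IsOpenImmersion.lift_fac _ _ _
  have hi : i ≫ (g ⁻¹ᵁ V).ι = g.fiberι s := IsOpenImmersion.lift_fac _ _ _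
  have hw : i ≫ g ∣_ V = g.fiberToSpecResidueField s ≫ j := by
    rw [← cancel_mono V.ι, Category.assoc, Category.assoc, morphismRestrict_ι, hj, ← Category.assoc, hi]
    exact g.fiber_fac s
  have hpb : IsPullback i (g.fiberToSpecResidueField s) (g ∣_ V) j := by
    refine IsPullback.of_right ?_ hw (isPullback_morphismRestrict g V).flip
    rw [hi, hj]
    exact IsPullback.of_hasPullback g (S.fromSpecResidueField s)
  refine mem_of_isPushout (isPushout_appTop_of_isPullback hpb) _ (fun x => ?_) (fun x => ?_) z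
  · refine ⟨V, hs, (g ⁻¹ᵁ V).topIso.hom x, ?_⟩
    have key : (g ⁻¹ᵁ V).topIso.hom ≫ rho g s V hs = i.appTop := by
      rw [← cancel_epi (g ⁻¹ᵁ V).topIso.inv, Iso.inv_hom_id_assoc, rho]
      simp only [← hi]
      rw [← Scheme.Hom.appLE_comp_appLE _ _ (g ⁻¹ᵁ V) ⊤ ⊤ (by simp) le_rfl]
      congr 1
      · simp [Scheme.Hom.appLE]
        exact (N.presheaf.map_comp _ _).symm.trans rfl
      · exact Scheme.Hom.appLE_eq_app _
    exact congrArg (fun φ => φ.hom x) key
  · obtain ⟨c, rfl⟩ := (Scheme.ΓSpecIso (S.residueField s)).commRingCatIsoToRingEquiv.symm.surjective x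
    obtain ⟨a, rfl⟩ := S.residue_surjective s c
    obtain ⟨W, hW, a, rfl⟩ := S.presheaf.exists_germ_eq a
    refine ⟨W, hW, g.app W a, ?_⟩
    have key : g.app W ≫ rho g s W hW = S.evaluation W s hW ≫ (Scheme.ΓSpecIso (S.residueField s)).inv ≫
        (g.fiberToSpecResidueField s).appTop := by
      have h : (⊤ : (Spec (S.residueField s)).Opens) ≤ S.fromSpecResidueField s ⁻¹ᵁ W := fun y _ => by
        show S.fromSpecResidueField s y ∈ W
        rw [Scheme.fromSpecResidueField_apply]; exact hW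
      rw [← Category.assoc, ← fromSpecResidueField_appLE s W hW h, rho, ← Scheme.Hom.appLE_eq_app,
        Scheme.Hom.appLE_comp_appLE, Scheme.Hom.appTop, ← Scheme.Hom.appLE_eq_app]
      erw [Scheme.Hom.appLE_comp_appLE]
      congr 1
      exact g.fiber_fac s
    exact congrArg (fun φ => φ.hom a) key

end Groth.Agent.FibIdem
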